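import Mathlib
import Cfsg.Agent.OE.Cz

set_option autoImplicit false
set_option linter.unusedSectionVars false

namespace Cfsg.Agent.OE

open Cfsg Cfsg.Agent.GT Cfsg.Agent.Loc.Mss Cfsg.Agent.StdB Cfsg.Agent.Chev Subgroup
open Cfsg.Agent.FE hiding Fe Sym
open scoped commutatorElement

variable {ι Nd M : Type} [AddCommGroup M] [Fintype Nd] [Finite ι] {R : StRoot ι Nd M} {T : Top R} {Θ : Gs T}
  {K G : Type*} [Field K] [Finite K] [CharP K 2] [Group G] [Finite G] (f : Fe Θ K G)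

namespace Fe

theorem ti_HH_le : R.HH f.x ≤ f.G0 := StRoot.HH_le_NN.trans StRoot.NN_le_XS_univ

theorem ti_G0_le : f.G0 ≤ f.Γ := f.G0_le_X.trans f.X_le_Γ

theorem ti_HH_norm (r : ι) : R.HH f.x ≤ 𝐍[rsub f.x r] := by
  have := f.st.HH_le_normalizer {r}
  rwa [XS_singleton] at this

theorem ti_mem {r : ι} {y : G} : y ∈ rsub f.x r ↔ ∃ c, f.x r c = y := (f.st.add r).mem_rsub

theorem ti_zero (r : ι) : f.x r 0 = 1 := (f.st.add r).zero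

theorem ti_tor {y : G} (hy : y ∈ f.Z) (h1 : y ≠ 1) : ∃ h ∈ R.HH f.x, h * f.z * h⁻¹ = y := by
  obtain ⟨c, rfl⟩ := f.ti_mem.1 hy
  exact T.tor1 f.st T.r0 fun e => h1 (by rw [e, f.ti_zero])

theorem ti {g y : G} (hg : g ∈ f.Γ) (hy : y ∈ f.Z) (h1 : y ≠ 1) (h : g * y * g⁻¹ ∈ f.Z) :
    g ∈ 𝐍[f.Z] := by
  obtain ⟨a, ha, ea⟩ := f.ti_tor hy h1
  obtain ⟨b, hb, eb⟩ := f.ti_tor h (fun e => h1 (by simpa using e))
  have h2 : b⁻¹ * g * a ∈ f.Γ ⊓ C1 f.z := by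
    refine ⟨f.Γ.mul_mem (f.Γ.mul_mem (f.Γ.inv_mem (f.ti_G0_le (f.ti_HH_le hb))) hg)
      (f.ti_G0_le (f.ti_HH_le ha)), mem_C1.2 ?_⟩
    calc b⁻¹ * g * a * f.z = b⁻¹ * (g * (a * f.z * a⁻¹) * g⁻¹) * b * (b⁻¹ * g * a) := by group
      _ = _ := by rw [ea, ← eb]; group
  have h3 := f.Cz h2
  have h4 := mul_mem (mul_mem (f.ti_HH_norm T.r0 hb) h3) (inv_mem (f.ti_HH_norm T.r0 ha))
  simpa [mul_assoc] using h4

theorem ti_Z_le : f.Z ≤ f.U := rsub_le fun c => StRoot.x_mem_UU T.pos0 c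

theorem ti_U_le : f.U ≤ f.X := f.U_le_G0.trans f.G0_le_X

theorem ti_U_cent : f.U ≤ 𝐂[f.Z] := fun _ hu =>
  mem_cent.2 fun _ hy => (T.Z_comm f.st.toIsAB hu hy).symm.eq

variable {f}

theorem Rg.cj {Y : Subgroup G} (h : f.Rg Y) {g : G} (hg : g ∈ f.Γ) : f.Rg cj(g, Y) := by
  obtain ⟨k, hk, rfl⟩ := h
  exact ⟨g * k, mul_mem hg hk, cj_cj _ _ _⟩

theorem Rg.eq {Y Y' : Subgroup G} (h : f.Rg Y) (h' : f.Rg Y') {y : G} (hy : y ∈ Y) (hy' : y ∈ Y')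
    (h1 : y ≠ 1) : Y = Y' := by
  obtain ⟨g, hg, rfl⟩ := h
  obtain ⟨k, hk, rfl⟩ := h'
  have h2 : k⁻¹ * g ∈ 𝐍[f.Z] := by
    refine f.ti (mul_mem (inv_mem hk) hg) (mem_cj.1 hy) (fun e => h1 ?_) ?_
    · have : y = g * (g⁻¹ * y * g) * g⁻¹ := by group
      rw [this, e]; simp
    · have := mem_cj.1 hy'
      convert this using 1
      group
  calc cj(g, f.Z) = cj(k, cj(k⁻¹ * g, f.Z)) := by rw [cj_cj, mul_inv_cancel_left]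
    _ = _ := by rw [cj_of_norm h2]

theorem Rg.le_X {Y : Subgroup G} (h : f.Rg Y) : Y ≤ f.X := by
  obtain ⟨g, -, rfl⟩ := h
  have := f.normal
  exact cj_le_of_norm (f.ti_Z_le.trans f.ti_U_le) (norm_normal ⊤ _ (mem_top g))

theorem Rg.sq {Y : Subgroup G} (h : f.Rg Y) {y : G} (hy : y ∈ Y) : y * y = 1 := by
  obtain ⟨g, -, rfl⟩ := h
  obtain ⟨c, hc⟩ := f.ti_mem.1 (mem_cj.1 hy)
  have e : y = g * f.x T.r0 c * g⁻¹ := by rw [hc]; group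
  rw [e, conj_mul, T.x_sq f.st.toIsAB]; simp

theorem Rg.exists_H {Y : Subgroup G} (h : f.Rg Y) {y : G} (hy : y ∈ Y) (h1 : y ≠ 1) (hH : y ∈ f.H) :
    ∃ v ∈ f.U, ∃ d, Y = cj(v, rsub f.x d) := by
  have hY := h
  obtain ⟨g, hg, rfl⟩ := h
  have hb := mem_cj.1 hy
  have e : g * (g⁻¹ * y * g) * g⁻¹ = y := by group
  obtain ⟨k, hk, ek⟩ := f.fus (y := g⁻¹ * y * g) (g := g) hb hg (by rwa [e])
  rw [e] at ek
  obtain ⟨v, hv, d, ed⟩ := f.H_conj_Z hk.1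
  refine ⟨v, hv, d, ?_⟩
  rw [← ed]
  exact hY.eq (f.rg_Z.cj hk.2) hy (ek ▸ conj_mem_cj hb) h1

theorem Rg.exists_U {Y : Subgroup G} (h : f.Rg Y) {y : G} (hy : y ∈ Y) (h1 : y ≠ 1) (hU : y ∈ f.U) :
    ∃ v ∈ f.U, ∃ d, R.Pos d ∧ Y = cj(v, rsub f.x d) := by
  obtain ⟨v, hv, d, rfl⟩ := h.exists_H hy h1 (f.G0_le_H (f.U_le_G0 hU))
  refine ⟨v, hv, d, ?_, rfl⟩
  by_contra hd
  obtain ⟨c, hc⟩ := f.ti_mem.1 (mem_cj.1 hy)
  have h2 : f.x d c ∈ f.U := hc ▸ mul_mem (mul_mem (inv_mem hv) hU) hv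
  have h3 := f.model.eq_zero_of_mem_UU hd h2
  rw [h3, f.ti_zero] at hc
  apply h1
  have : y = v * (v⁻¹ * y * v) * v⁻¹ := by group
  rw [this, ← hc]; simp

theorem Rg.le_U {Y : Subgroup G} (h : f.Rg Y) {y : G} (hy : y ∈ Y) (h1 : y ≠ 1) (hU : y ∈ f.U) :
    Y ≤ f.U := by
  obtain ⟨v, hv, d, hd, rfl⟩ := h.exists_U hy h1 hU
  exact cj_le_of_mem (rsub_le fun c => StRoot.x_mem_UU hd c) hv

theorem Rg.cen {Y : Subgroup G} (h : f.Rg Y) {y g : G} (hy : y ∈ Y) (h1 : y ≠ 1) (hg : g ∈ f.X)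
    (h2 : g * g = 1) (hc : Commute g y) : g ∈ 𝐂[Y] := by
  have : Fact (Nat.Prime 2) := ⟨Nat.prime_two⟩
  have := f.normal
  obtain ⟨k, hk, rfl⟩ := h
  have hb := mem_cj.1 hy
  have hX : k⁻¹ * g * k ∈ f.X := by simpa using f.normal.conj_mem g hg k⁻¹
  have hn : k⁻¹ * g * k ∈ 𝐍[f.Z] := by
    refine f.ti (f.X_le_Γ hX) hb (fun e => h1 ?_) ?_
    · have : y = k * (k⁻¹ * y * k) * k⁻¹ := by group
      rw [this, e]; simp
    · convert hb using 1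
      calc _ = k⁻¹ * (g * y) * g⁻¹ * k := by group
        _ = _ := by rw [hc.eq]; group
  have h3 := cent_of_syl (M := f.X) (S := f.U) (B := f.Z) (g := 1) (k := 1) f.syl (one_mem _)
    (by rw [cj_one]; exact cent_comm f.ti_U_cent) hX hn (by
      rw [pow_one, pow_two]
      calc _ = k⁻¹ * (g * g) * k := by group
        _ = 1 := by rw [h2]; group)
  rw [← cj_cent]
  exact mem_cj.2 h3

theorem Lg.conj {y g : G} (h : f.Lg y) (hg : g ∈ f.Γ) : f.Lg (g * y * g⁻¹) := by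
  obtain ⟨h1, Y, hY, hy⟩ := h
  exact ⟨fun e => h1 (by simpa using e), _, hY.cj hg, conj_mem_cj hy⟩

variable (f)

theorem rg_rsub (r : ι) : f.Rg (rsub f.x r) := by
  obtain ⟨L, rfl⟩ := T.trans r
  refine ⟨R.nw f.x L, f.ti_G0_le (StRoot.NN_le_XS_univ (StRoot.nw_mem_NN L)), le_antisymm ?_ ?_⟩
  · refine rsub_le fun c => ?_
    rw [← T.nw_conj f.st]
    exact conj_mem_cj (x_mem_rsub _ _ _)
  · refine cj_le_iff.2 fun a ha => ?_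
    obtain ⟨c, rfl⟩ := f.ti_mem.1 ha
    rw [T.nw_conj f.st]
    exact x_mem_rsub _ _ _

theorem lg_x (r : ι) {c : K} (hc : c ≠ 0) : f.Lg (f.x r c) :=
  ⟨fun e => hc (f.model.x_eq_one e), _, f.rg_rsub r, x_mem_rsub _ _ _⟩

/-- a maximal `E` contains the root subgroups that meet it -/
theorem rg_le {Γ' K' H' S' E : Subgroup G} {τ : G} (m : MX Γ' K' H' S' E τ) (hΓ : Γ' ≤ f.Γ)
    (hE : E ≤ f.U) (hK : ∀ Y, f.Rg Y → ∀ y ∈ Y, y ≠ 1 → y ∈ E → Y ≤ K') {Y : Subgroup G} (h : f.Rg Y)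
    {y : G} (hy : y ∈ Y) (h1 : y ≠ 1) (hyE : y ∈ E) : Y ≤ E := by
  let P : Subgroup G → Prop := fun Y => f.Rg Y ∧ ∃ y ∈ Y, y ≠ 1 ∧ y ∈ E
  let J : Subgroup G := ⨆ Y : {Y // P Y}, Y.1
  have hJU : J ≤ f.U := iSup_le fun ⟨Y, hY, y, hy, h1, hyE⟩ => hY.le_U hy h1 (hE hyE)
  have hJK : J ≤ K' := iSup_le fun ⟨Y, hY, y, hy, h1, hyE⟩ => hK Y hY y hy h1 hyE
  have hn : Γ' ⊓ 𝐍[E] ≤ 𝐍[J] := by
    refine norm_of_forall_cj_le fun g hg => ?_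
    rw [Subgroup.map_iSup]
    refine iSup_le fun ⟨Y, hY, y, hy, h1, hyE⟩ => ?_
    exact le_iSup (fun Y : {Y // P Y} => Y.1) ⟨cj(g, Y), hY.cj (hΓ hg.1), g * y * g⁻¹, conj_mem_cj hy,
      fun e => h1 (by simpa using e), conj_mem_of_norm hg.2 hyE⟩
  have := m.max (E ⊔ J) (f.syl.pg.to_le (sup_le hE hJU)) le_sup_left
    (sup_le (m.le.trans inf_le_right) hJK) (norm_sup inf_le_right hn)
  exact (le_iSup (fun Y : {Y // P Y} => Y.1) ⟨Y, h, y, hy, h1, hyE⟩).trans (le_sup_right.trans this)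

/-- the trace step -/
theorem tr_mem {Γ' K' H' S' E I : Subgroup G} {τ : G} (m : MX Γ' K' H' S' E τ) (hS : S' ≤ f.S)
    (hK : K' ≤ f.X) (hτ : τ ∉ f.X) (hI : I ≤ E) {r : ι} (h0 : ∀ b, f.x r b ∈ S' ⊓ K')
    (h1 : ∀ u ∈ f.U, ∀ b, u * f.x r b * u⁻¹ * (f.x r b)⁻¹ ∈ I)
    (h2 : ∀ u ∈ f.U, ∀ b, u * f.x (Θ.π r) b * u⁻¹ * (f.x (Θ.π r) b)⁻¹ ∈ I) (b : K) :
    f.x r b ∈ 𝐍[E] ∧ f.x r b * f.x (Θ.π r) (f.σ b) ∈ E := by
  have hU : S' ⊓ K' ≤ f.U := f.S_inf ▸ inf_le_inf hS hK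
  have hc : ∀ u ∈ f.U, ⁅f.x r b, u⁆ ∈ E := fun u hu => by
    have := inv_mem (hI (h1 u hu b))
    convert this using 1
    rw [commutatorElement_def]; group
  have hn : f.x r b ∈ 𝐍[E] := by
    refine mem_norm_of_cj_le (cj_le_iff.2 fun e he => ?_)
    have := mul_mem (hc e (hU (m.le he))) he
    convert this using 1
    rw [commutatorElement_def]; group
  refine ⟨hn, ?_⟩
  have h3 := m.tr (f.x r b) ⟨h0 b, hn⟩ (by rw [T.x_sq f.st.toIsAB]; exact one_mem _)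
    fun s hs => hc s (hU hs.1)
  obtain ⟨u, hu, rfl⟩ := f.exists_tU (hS m.τ_mem) hτ
  have h4 := conj_mem_of_norm hn (hI (h2 u hu (f.σ b)))
  have := mul_mem (inv_mem h4) h3
  convert this using 1
  rw [← f.act]; group

end Fe

end Cfsg.Agent.OE
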